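import Cfsg.Agent.Lib.ThreeTransp.M24Sylow.Transfer

/-!
# Groups of type `M(24)`: the members fixed by an element of prime order
-/

set_option autoImplicit false

namespace CfsgLib.M24Sylow

open CfsgLib.ThreeTransp CfsgLib.M24 CfsgLib.M22Sylow CfsgLib.ThreeTransp.Factor
open CfsgLib.M23 (Q pj pj_mem link_swap)

variable {G : Type*} [Group G] [Finite G] {D : Set G} (S : Setup D)
include S

theorem fixSet_conj {y g e : G} (hg : g ∈ Subgroup.normalizer ((Subgroup.zpowers y : Subgroup G) : Set G))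
    (he : e ∈ fixSet D y) : g * e * g⁻¹ ∈ fixSet D y := by
  refine ⟨S.tt.conj g e he.1, ?_⟩
  obtain ⟨k, hk⟩ : ∃ k : ℤ, y ^ k = g⁻¹ * y * g :=
    ((Subgroup.mem_normalizer_iff''.1 hg) y).1 (Subgroup.mem_zpowers y)
  have h := (he.2.zpow_left k).eq
  rw [hk] at h
  calc y * (g * e * g⁻¹) = g * (g⁻¹ * y * g * e) * g⁻¹ := by group
    _ = g * (e * (g⁻¹ * y * g)) * g⁻¹ := by rw [h]
    _ = g * e * g⁻¹ * y := by group

theorem fixSet_modEq {p : ℕ} (hp : p.Prime) {y : G} (hy : y ^ p = 1) :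
    306936 ≡ (fixSet D y).ncard [MOD p] :=
  ncard_eq S ▸ Loc.fix_modEq hp hy D fun e he => S.tt.conj y e he

theorem common_modEq {p : ℕ} (hp : p.Prime) {a c y : G} (ha : a ∈ D) (hc : c ∈ D) (hnc : ¬ Commute a c)
    (hy : y ^ p = 1) (hay : Commute y a) (hcy : Commute y c) :
    3240 ≡ {e | e ∈ link D a ∩ link D c ∧ Commute y e}.ncard [MOD p] :=
  common_ncard_eq S ha hc hnc ▸ Loc.fix_modEq hp hy _
    fun _ he => ⟨S.link_conj_fix hay he.1, S.link_conj_fix hcy he.2⟩

theorem card_normalizer_fix {p : ℕ} {a y : G} (E : Elt D p a y) :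
    Nat.card ↥(Subgroup.normalizer ((Subgroup.zpowers y : Subgroup G) : Set G) ⊓
        Subgroup.centralizer ({a} : Set G)) =
      2 * Nat.card ↥(Subgroup.normalizer ((Subgroup.zpowers (img S E) : Subgroup (Q D a)) : Set (Q D a))) := by
  rw [← pre_normalizer S E, card_pre S E.mem]

theorem card_centralizer_fix {p : ℕ} {a y : G} (E : Elt D p a y) :
    Nat.card ↥(Subgroup.centralizer ({y} : Set G) ⊓ Subgroup.centralizer ({a} : Set G)) =
      2 * Nat.card ↥(Subgroup.centralizer ({img S E} : Set (Q D a))) := by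
  rw [inf_comm, ← pre_centralizer S E, card_pre S E.mem]

/-- An element exchanging two commuting members. -/
theorem exists_swap {a b : G} (ha : a ∈ D) (hb : b ∈ link D a) : ∃ t : G, t * a * t⁻¹ = b ∧ t * b * t⁻¹ = a := by
  obtain ⟨g, hg⟩ := S.cls ha hb.1
  obtain ⟨h, hh, hhb⟩ := S.hyp.exists_conj_link hb.1 (hg ▸ link_conj S.tt g hb) (link_swap ha hb)
  refine ⟨h * g, ?_, ?_⟩
  · rw [show h * g * a * (h * g)⁻¹ = h * (g * a * g⁻¹) * h⁻¹ by group, hg, (linkSub_commute hh).eq,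
      mul_inv_cancel_right]
  · rw [show h * g * b * (h * g)⁻¹ = h * (g * b * g⁻¹) * h⁻¹ by group, hhb]

/-- A normalising element carrying one fixed member to a commuting one and back. -/
theorem exists_normalizing_swap {p : ℕ} (hp : p.Prime) (hdvd : ¬ p ^ 2 ∣ Nat.card G) {a b y : G}
    (ha : a ∈ D) (hb : b ∈ link D a) (hy : y ^ p = 1) (hy1 : y ≠ 1) (hay : Commute y a) (hby : Commute y b) :
    ∃ g ∈ Subgroup.normalizer ((Subgroup.zpowers y : Subgroup G) : Set G),
      g * a * g⁻¹ = b ∧ g * b * g⁻¹ = a := by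
  obtain ⟨t, hta, htb⟩ := exists_swap S ha hb
  haveI := Fact.mk hp
  set M := Subgroup.centralizer ({a, b} : Set G) with hM
  have hmem : ∀ {g : G}, g ∈ M ↔ Commute g a ∧ Commute g b := by
    intro g
    rw [hM, Subgroup.mem_centralizer_iff]
    constructor
    · intro h
      exact ⟨(h a (Set.mem_insert _ _)).symm, (h b (Set.mem_insert_of_mem _ rfl)).symm⟩
    · rintro ⟨h1, h2⟩ z (rfl | rfl)
      exacts [h1.symm.eq, h2.symm.eq]
  have hord : orderOf y = p := orderOf_eq_prime hy hy1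
  set X := Subgroup.zpowers y with hX
  have hcX : Nat.card X = p := by rw [hX, Nat.card_zpowers, hord]
  have h1 : X.map (MulAut.conj t).toMonoidHom ≤ M := by
    rw [hX, MonoidHom.map_zpowers, Subgroup.zpowers_le]
    show t * y * t⁻¹ ∈ M
    refine hmem.2 ⟨?_, ?_⟩
    · rw [← htb]; exact (Commute.conj_iff t).2 hby
    · rw [← hta]; exact (Commute.conj_iff t).2 hay
  have h2 : X ≤ M := Subgroup.zpowers_le.2 (hmem.2 ⟨hay, hby⟩)
  obtain ⟨h, hh, e⟩ := Loc.conj_of_card hp h1 h2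
    (by rw [Subgroup.card_map_of_injective (MulAut.conj t).injective, hcX]) hcX
    (fun hd => hdvd (hd.trans (Subgroup.card_subgroup_dvd_card M)))
  obtain ⟨hha, hhb⟩ := hmem.1 hh
  refine ⟨h * t, Loc.mem_normalizer_of_map ?_, ?_, ?_⟩
  · rw [Subgroup.map_map] at e
    rw [map_mul]
    exact e
  · rw [show h * t * a * (h * t)⁻¹ = h * (t * a * t⁻¹) * h⁻¹ by group, hta, hhb.eq, mul_inv_cancel_right]
  · rw [show h * t * b * (h * t)⁻¹ = h * (t * b * t⁻¹) * h⁻¹ by group, htb, hha.eq, mul_inv_cancel_right]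

end CfsgLib.M24Sylow
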