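import Cfsg.Agent.Lib.ThreeTransp.M22Sylow.Transfer
import Cfsg.Agent.Lib.ThreeTransp.M24Centralizer
import Cfsg.Agent.Lib.ThreeTransp.M24Invol

/-!
# Groups of type `M(24)`: elements of odd prime order and the link quotients
-/

set_option autoImplicit false

namespace CfsgLib.M24Sylow

open CfsgLib.ThreeTransp CfsgLib.M24 CfsgLib.M22Sylow
open CfsgLib.M23 (Q pj pj_mem)
open CfsgLib.ThreeTransp.Factor

variable {G : Type*} [Group G] {D : Set G}

/-- An element normalises a cyclic subgroup as soon as it maps its generator into it. -/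
theorem mem_normalizer_zpowers [Finite G] {y g : G} (h : g * y * g⁻¹ ∈ Subgroup.zpowers y) :
    g ∈ Subgroup.normalizer ((Subgroup.zpowers y : Subgroup G) : Set G) := by
  refine Loc.mem_normalizer_of_map (Subgroup.eq_of_le_of_card_ge ?_ ?_)
  · rw [MonoidHom.map_zpowers]
    exact Subgroup.zpowers_le.2 h
  · rw [Subgroup.card_map_of_injective (MulAut.conj g).injective]

/-- A normalising element maps the generator into the subgroup. -/
theorem conj_mem_zpowers {y g : G}
    (hg : g ∈ Subgroup.normalizer ((Subgroup.zpowers y : Subgroup G) : Set G)) :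
    g * y * g⁻¹ ∈ Subgroup.zpowers y :=
  ((Subgroup.mem_normalizer_iff.1 hg) y).1 (Subgroup.mem_zpowers y)

/-- The preimage of a subgroup of the link quotient. -/
def pre (D : Set G) (a : G) (K : Subgroup (Q D a)) : Subgroup G :=
  (K.comap (QuotientGroup.mk' (Subgroup.center ↥(linkSub D a)))).map (linkSub D a).subtype

theorem mem_pre {a g : G} {K : Subgroup (Q D a)} :
    g ∈ pre D a K ↔ ∃ hg : g ∈ linkSub D a, ((⟨g, hg⟩ : ↥(linkSub D a)) : Q D a) ∈ K := by
  constructor
  · rintro ⟨⟨x, hx⟩, hxK, rfl⟩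
    exact ⟨hx, hxK⟩
  · rintro ⟨hg, h⟩
    exact ⟨⟨g, hg⟩, h, rfl⟩

variable [Finite G] (S : Setup D)
include S

omit [Finite G] in
theorem mem_zpowers_cases {a x : G} (ha : a ∈ D) (h : x ∈ Subgroup.zpowers a) : x = 1 ∨ x = a := by
  obtain ⟨k, rfl⟩ := h
  have h2 : a ^ (2 : ℤ) = 1 := by rw [zpow_two]; exact S.sqd ha
  obtain ⟨m, rfl | rfl⟩ := Int.even_or_odd' k
  · left; simp only [zpow_mul, h2, one_zpow]
  · right; simp only [zpow_add, zpow_mul, h2, one_zpow, one_mul, zpow_one]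

omit [Finite G] in
theorem orderOf_member {a : G} (ha : a ∈ D) : orderOf a = 2 :=
  orderOf_eq_prime (by rw [pow_two]; exact S.sqd ha) (S.tt.ne_one a ha)

theorem mem_linkSub {a g : G} (ha : a ∈ D) (h : Commute a g) : g ∈ linkSub D a :=
  centralizer_eq S ha ▸ Subgroup.mem_centralizer_singleton_iff.2 h.symm.eq

theorem card_pre {a : G} (ha : a ∈ D) (K : Subgroup (Q D a)) : Nat.card (pre D a K) = 2 * Nat.card K := by
  rw [pre, Subgroup.card_map_of_injective (linkSub D a).subtype_injective]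
  set π := QuotientGroup.mk' (Subgroup.center ↥(linkSub D a)) with hπ
  have hz : Nat.card (Subgroup.center ↥(linkSub D a)) = 2 := by
    rw [center_link S ha, Nat.card_congr (Subgroup.subgroupOfEquivOfLe
      (Subgroup.zpowers_le.2 (self_mem_linkSub S ha))).toEquiv, Nat.card_zpowers, orderOf_member S ha]
  have h1 := Subgroup.card_mul_index (K.comap π)
  rw [Subgroup.index_comap_of_surjective K (QuotientGroup.mk'_surjective _),
    Subgroup.card_eq_card_quotient_mul_card_subgroup (Subgroup.center ↥(linkSub D a)),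
    show Nat.card (↥(linkSub D a) ⧸ Subgroup.center ↥(linkSub D a)) = Nat.card K * K.index from
      (Subgroup.card_mul_index K).symm, hz] at h1
  have hi : 0 < K.index := Nat.pos_of_ne_zero Subgroup.index_ne_zero_of_finite
  exact Nat.eq_of_mul_eq_mul_right hi (h1.trans (by ring))

omit [Finite G] S in
theorem pre_le_linkSub {a : G} (K : Subgroup (Q D a)) : pre D a K ≤ linkSub D a := fun _ hg =>
  (mem_pre.1 hg).1

theorem commute_pre {a g : G} {K : Subgroup (Q D a)} (ha : a ∈ D) (hg : g ∈ pre D a K) : Commute a g :=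
  (Subgroup.mem_centralizer_singleton_iff.1 ((centralizer_eq S ha).symm ▸ pre_le_linkSub K hg)).symm

theorem eq_cases {a x y : G} (ha : a ∈ D) (hx : x ∈ linkSub D a) (hy : y ∈ linkSub D a)
    (h : ((⟨x, hx⟩ : ↥(linkSub D a)) : Q D a) = ((⟨y, hy⟩ : ↥(linkSub D a)) : Q D a)) :
    x = y ∨ x = y * a := by
  have hm : y⁻¹ * x ∈ linkSub D a := mul_mem (inv_mem hy) hx
  have h1 : ((⟨y⁻¹ * x, hm⟩ : ↥(linkSub D a)) : Q D a) = 1 :=
    (QuotientGroup.eq_one_iff _).2 (QuotientGroup.eq.1 h.symm)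
  rcases pj_eq_one_cases S ha hm h1 with e | e
  · exact Or.inl (inv_mul_eq_one.1 e).symm
  · exact Or.inr (inv_mul_eq_iff_eq_mul.1 e)

/-- The data of an element `y` of odd prime order commuting with the member `a`. -/
structure Elt (D : Set G) (p : ℕ) (a y : G) : Prop where
  prime : p.Prime
  odd : p ≠ 2
  mem : a ∈ D
  comm : Commute a y
  pow : y ^ p = 1
  ne : y ≠ 1

variable {p : ℕ} {a y : G} (E : Elt D p a y)
include E

theorem Elt.mem_sub : y ∈ linkSub D a := mem_linkSub S E.mem E.comm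

/-- The image of `y` in the link quotient. -/
def img (S : Setup D) (E : Elt D p a y) : Q D a :=
  ((⟨y, E.mem_sub S⟩ : ↥(linkSub D a)) : Q D a)

omit [Finite G] in
theorem Elt.ne_member : y ≠ a ∧ y * a ≠ y := by
  refine ⟨fun h => ?_, fun h => ?_⟩
  · have h2 : a ^ p = 1 := h ▸ E.pow
    have h3 : orderOf a = p := by
      haveI := Fact.mk E.prime
      exact orderOf_eq_prime h2 (h ▸ E.ne)
    exact E.odd (h3.symm.trans (orderOf_eq_prime (by rw [pow_two]; exact S.sqd E.mem) (h ▸ E.ne)))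
  · exact S.tt.ne_one a E.mem (mul_eq_left.1 h)

theorem img_pow : img S E ^ p = 1 := by
  rw [img, ← QuotientGroup.mk_pow, ← QuotientGroup.mk_one]
  exact congrArg _ (Subtype.ext E.pow)

theorem img_ne : img S E ≠ 1 := fun h => by
  rcases pj_eq_one_cases S E.mem (E.mem_sub S) h with e | e
  · exact E.ne e
  · exact (E.ne_member S).1 e

theorem card_zpowers_img : Nat.card (Subgroup.zpowers (img S E)) = p := by
  haveI := Fact.mk E.prime
  rw [Nat.card_zpowers, orderOf_eq_prime (img_pow S E) (img_ne S E)]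

theorem commute_img {e : G} (he : e ∈ link D a) : Commute y e ↔ Commute (img S E) (pj he) := by
  constructor
  · intro h
    exact Commute.map (show Commute (⟨y, E.mem_sub S⟩ : ↥(linkSub D a)) ⟨e, Subgroup.subset_closure he⟩ from
      Subtype.ext h.eq) (QuotientGroup.mk' (Subgroup.center ↥(linkSub D a)))
  · intro h
    refine mul_inv_eq_iff_eq_mul.1 (S.pj_inj E.mem (S.link_conj_fix E.comm.symm he) he ?_)
    show (((⟨y, E.mem_sub S⟩ : ↥(linkSub D a)) * ⟨e, Subgroup.subset_closure he⟩ *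
      (⟨y, E.mem_sub S⟩ : ↥(linkSub D a))⁻¹ : ↥(linkSub D a)) : Q D a) = pj he
    rw [QuotientGroup.mk_mul, QuotientGroup.mk_mul, QuotientGroup.mk_inv]
    exact mul_inv_eq_iff_eq_mul.2 h

/-- The members of the link fixed by `y`, counted in the quotient. -/
theorem ncard_fixed : {e | e ∈ link D a ∧ Commute y e}.ncard = (fixSet (CfsgLib.M23.E D a) (img S E)).ncard :=
  S.card_transfer E.mem _ _ fun _ he => commute_img S E he

theorem mem_pre_centralizer {g : G} :
    g ∈ pre D a (Subgroup.centralizer ({img S E} : Set (Q D a))) ↔ Commute a g ∧ Commute y g := by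
  constructor
  · intro h
    have hca := commute_pre S E.mem h
    obtain ⟨hg, hc⟩ := mem_pre.1 h
    have hc' := Subgroup.mem_centralizer_singleton_iff.1 hc
    refine ⟨hca, ?_⟩
    have hm : g * y * g⁻¹ ∈ linkSub D a := mul_mem (mul_mem hg (E.mem_sub S)) (inv_mem hg)
    have h' : ((⟨g * y * g⁻¹, hm⟩ : ↥(linkSub D a)) : Q D a) = img S E := by
      show (((⟨g, hg⟩ : ↥(linkSub D a)) * ⟨y, E.mem_sub S⟩ * (⟨g, hg⟩ : ↥(linkSub D a))⁻¹ :
        ↥(linkSub D a)) : Q D a) = _
      rw [QuotientGroup.mk_mul, QuotientGroup.mk_mul, QuotientGroup.mk_inv]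
      exact mul_inv_eq_iff_eq_mul.2 hc'
    rcases eq_cases S E.mem hm (E.mem_sub S) h' with e | e
    · exact (mul_inv_eq_iff_eq_mul.1 e).symm
    · have h1 : (g * y * g⁻¹) ^ p = 1 := by rw [conj_pow, E.pow, mul_one, mul_inv_cancel]
      rw [e, E.comm.symm.mul_pow, E.pow, one_mul] at h1
      obtain ⟨m, rfl⟩ := E.prime.odd_of_ne_two E.odd
      rw [pow_succ, pow_mul, pow_two, S.sqd E.mem, one_pow, one_mul] at h1
      exact absurd h1 (S.tt.ne_one a E.mem)
  · rintro ⟨h1, h2⟩
    refine mem_pre.2 ⟨mem_linkSub S E.mem h1, Subgroup.mem_centralizer_singleton_iff.2 ?_⟩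
    show ((⟨g, _⟩ : ↥(linkSub D a)) : Q D a) * img S E = _
    rw [img, ← QuotientGroup.mk_mul, ← QuotientGroup.mk_mul]
    exact congrArg _ (Subtype.ext h2.symm.eq)

theorem mem_pre_normalizer {g : G} :
    g ∈ pre D a (Subgroup.normalizer ((Subgroup.zpowers (img S E) : Subgroup (Q D a)) : Set (Q D a))) ↔
      Commute a g ∧ g ∈ Subgroup.normalizer ((Subgroup.zpowers y : Subgroup G) : Set G) := by
  constructor
  · intro h
    have hca := commute_pre S E.mem h
    obtain ⟨hg, hn⟩ := mem_pre.1 h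
    obtain ⟨k, hk⟩ := Subgroup.mem_zpowers_iff.1 (conj_mem_zpowers hn)
    refine ⟨hca, mem_normalizer_zpowers (Subgroup.mem_zpowers_iff.2 ⟨k, ?_⟩)⟩
    have hm : g * y * g⁻¹ ∈ linkSub D a := mul_mem (mul_mem hg (E.mem_sub S)) (inv_mem hg)
    have hk' : y ^ k ∈ linkSub D a := zpow_mem (E.mem_sub S) k
    have h' : ((⟨g * y * g⁻¹, hm⟩ : ↥(linkSub D a)) : Q D a) = ((⟨y ^ k, hk'⟩ : ↥(linkSub D a)) : Q D a) := by
      show (((⟨g, hg⟩ : ↥(linkSub D a)) * ⟨y, E.mem_sub S⟩ * (⟨g, hg⟩ : ↥(linkSub D a))⁻¹ :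
        ↥(linkSub D a)) : Q D a) = (((⟨y, E.mem_sub S⟩ : ↥(linkSub D a)) ^ k : ↥(linkSub D a)) : Q D a)
      rw [QuotientGroup.mk_mul, QuotientGroup.mk_mul, QuotientGroup.mk_inv, QuotientGroup.mk_zpow]
      exact hk.symm
    rcases eq_cases S E.mem hm hk' h' with e | e
    · exact e.symm
    · have h1 : (g * y * g⁻¹) ^ p = 1 := by rw [conj_pow, E.pow, mul_one, mul_inv_cancel]
      rw [e, (E.comm.symm.zpow_left k).mul_pow, ← zpow_natCast (y ^ k), ← zpow_mul, mul_comm, zpow_mul,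
        zpow_natCast, E.pow, one_zpow, one_mul] at h1
      obtain ⟨m, rfl⟩ := E.prime.odd_of_ne_two E.odd
      rw [pow_succ, pow_mul, pow_two, S.sqd E.mem, one_pow, one_mul] at h1
      exact absurd h1 (S.tt.ne_one a E.mem)
  · rintro ⟨h1, h2⟩
    refine mem_pre.2 ⟨mem_linkSub S E.mem h1, mem_normalizer_zpowers ?_⟩
    obtain ⟨k, hk⟩ := Subgroup.mem_zpowers_iff.1 (conj_mem_zpowers h2)
    refine Subgroup.mem_zpowers_iff.2 ⟨k, ?_⟩
    rw [img, ← QuotientGroup.mk_inv, ← QuotientGroup.mk_mul, ← QuotientGroup.mk_mul, ← QuotientGroup.mk_zpow]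
    exact congrArg _ (Subtype.ext hk)

theorem pre_centralizer :
    pre D a (Subgroup.centralizer ({img S E} : Set (Q D a))) =
      Subgroup.centralizer ({a} : Set G) ⊓ Subgroup.centralizer ({y} : Set G) :=
  Subgroup.ext fun _ => (mem_pre_centralizer S E).trans
    ⟨fun h => Subgroup.mem_inf.2 ⟨Subgroup.mem_centralizer_singleton_iff.2 h.1.symm.eq,
        Subgroup.mem_centralizer_singleton_iff.2 h.2.symm.eq⟩,
      fun h => ⟨(Subgroup.mem_centralizer_singleton_iff.1 (Subgroup.mem_inf.1 h).1).symm,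
        (Subgroup.mem_centralizer_singleton_iff.1 (Subgroup.mem_inf.1 h).2).symm⟩⟩

theorem pre_normalizer :
    pre D a (Subgroup.normalizer ((Subgroup.zpowers (img S E) : Subgroup (Q D a)) : Set (Q D a))) =
      Subgroup.normalizer ((Subgroup.zpowers y : Subgroup G) : Set G) ⊓ Subgroup.centralizer ({a} : Set G) :=
  Subgroup.ext fun _ => (mem_pre_normalizer S E).trans
    ⟨fun h => Subgroup.mem_inf.2 ⟨h.2, Subgroup.mem_centralizer_singleton_iff.2 h.1.symm.eq⟩,
      fun h => ⟨(Subgroup.mem_centralizer_singleton_iff.1 (Subgroup.mem_inf.1 h).2).symm,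
        (Subgroup.mem_inf.1 h).1⟩⟩

end CfsgLib.M24Sylow
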